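import Groth.Agent.Dual.H375.Hartogs
import Groth.Agent.CalgA.SerreLocal
import Groth.Agent.CalgA.DepthSmall
import Groth.Agent.CycB.ModStalk
import Groth.Agent.Models.TrivGeom
import Groth.Agent.Grpsch.PicGrp
import Groth.Prelude.Def_Pi1

/-!
# Classes of invertible modules on a normal scheme trivial off codimension two are trivial
-/

set_option autoImplicit false
universe u

open CategoryTheory AlgebraicGeometry Limits
open Groth.Agent Groth.Agent.Grpsch

namespace K17.Hartogs

variable {X : Scheme.{u}}

/-- Restriction to an open is faithful on morphisms into a module equal to the extension of its restriction. -/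
theorem map_injective {E F : X.Modules} (V : X.Opens)
    (h : IsIso ((Scheme.Modules.restrictAdjunction V.ι).unit.app F)) {a b : E ⟶ F}
    (hab : (Scheme.Modules.restrictFunctor V.ι).map a = (Scheme.Modules.restrictFunctor V.ι).map b) : a = b := by
  have h1 := (Scheme.Modules.restrictAdjunction V.ι).unit.naturality a
  have h2 := (Scheme.Modules.restrictAdjunction V.ι).unit.naturality b
  simp only [Functor.id_obj, Functor.id_map, Functor.comp_obj, Functor.comp_map] at h1 h2
  rw [hab, ← h2] at h1
  exact (cancel_mono _).mp h1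

/-- An isomorphism over an open subset extends. -/
theorem exists_iso {E F : X.Modules} (V : X.Opens)
    (hE : IsIso ((Scheme.Modules.restrictAdjunction V.ι).unit.app E))
    (hF : IsIso ((Scheme.Modules.restrictAdjunction V.ι).unit.app F))
    (α : E.restrict V.ι ≅ F.restrict V.ι) : Nonempty (E ≅ F) := by
  obtain ⟨β, hβ⟩ := Dual.H375.StalkIso.exists_extend V.ι hF α.hom
  obtain ⟨γ, hγ⟩ := Dual.H375.StalkIso.exists_extend V.ι hE α.inv
  refine ⟨⟨β, γ, map_injective V hE ?_, map_injective V hF ?_⟩⟩
  · rw [Functor.map_comp, hβ, hγ, α.hom_inv_id, CategoryTheory.Functor.map_id]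
  · rw [Functor.map_comp, hβ, hγ, α.inv_hom_id, CategoryTheory.Functor.map_id]

theorem isIso_unit [IsLocallyNoetherian X] {L : X.Modules} (hL : PicF.IsInvertible L) (V : X.Opens)
    (hV : ∀ x : X, x ∉ V → 2 ≤ LocCoh.depth (X.presheaf.stalk x) (X.presheaf.stalk x)) :
    IsIso ((Scheme.Modules.restrictAdjunction V.ι).unit.app L) := by
  refine Dual.H375.Hartogs.isIso_unit (Models.TrivGeom.isCoh_of_isInvertible hL) V (fun x hx => ?_)
  obtain ⟨t, ht⟩ := CycB.ModStalk.exists_isGen hL x
  let e : X.presheaf.stalk x ≃ₗ[X.presheaf.stalk x] L.presheaf.stalk x :=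
    LinearEquiv.ofBijective (LinearMap.toSpanSingleton _ _ t) ht
  rw [← CalgA.DepthSmall.depth_congr e]
  exact hV x hx

/-- A class trivial on an open subset containing all points of depth at most one is trivial. -/
theorem eq_one_of_depth [IsLocallyNoetherian X] (V : X.Opens)
    (hV : ∀ x : X, x ∉ V → 2 ≤ LocCoh.depth (X.presheaf.stalk x) (X.presheaf.stalk x))
    (c : PicGrp.Pic X) (hc : PicGrp.pull V.ι c = 1) : c = 1 := by
  induction c using PicGrp.ind with | _ L hL => ?_
  rw [PicGrp.pull_mk, PicGrp.mk_eq_one_iff] at hc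
  obtain ⟨e⟩ := hc
  rw [PicGrp.mk_eq_one_iff]
  have hO : PicF.IsInvertible (Coh.structureModule X) := Fdesc.LocGen.isInvertible_structureModule
  refine exists_iso V (isIso_unit hL V hV) (isIso_unit hO V hV) ?_
  have h1 := map_one (PicGrp.pull V.ι)
  rw [PicGrp.one_def, PicGrp.pull_mk, PicGrp.mk_eq_one_iff] at h1
  exact (Scheme.Modules.restrictFunctorIsoPullback V.ι).app L ≪≫ e ≪≫ h1.some.symm ≪≫
    ((Scheme.Modules.restrictFunctorIsoPullback V.ι).app (Coh.structureModule X)).symm

/-- **NODE HARTOGS of S14325.** -/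
theorem eq_one_of_pull {X V : Scheme.{u}} [IsIntegral X] [IsNoetherian X] (hX : Pi1.IsNormalScheme X)
    (j : V ⟶ X) [IsOpenImmersion j] (hj : ∀ x : X, ringKrullDim (X.presheaf.stalk x) ≤ 1 → x ∈ Set.range j)
    (c : PicGrp.Pic X) (hc : PicGrp.pull j c = 1) : c = 1 := by
  refine eq_one_of_depth j.opensRange (fun x hx => ?_) c ?_
  · have := (hX x).1
    have := (hX x).2
    exact CalgA.SerreLocal.two_le_depth_of_isIntegrallyClosed (fun h => hx (hj x h))
  · have h1 : j.opensRange.ι = j.isoOpensRange.inv ≫ j := by simp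
    rw [h1, PicGrp.pull_comp, hc, map_one]

end K17.Hartogs
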